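import Mathlib

/-! # Adjoining an `N`-th root of a uniformizer -/

universe v

open Polynomial IsLocalRing

namespace Groth.Agent.GmRescale

theorem exists_root_dvr (R : Type v) [CommRing R] [IsDomain R] [IsDiscreteValuationRing R]
    (K : Type v) [Field K] [Algebra R K] [IsFractionRing R K] {π : R} (hπ : Irreducible π) (N : ℕ) (hN : 1 ≤ N) :
    ∃ (R' : Type v) (_ : CommRing R') (_ : IsDomain R') (_ : IsDiscreteValuationRing R')
      (K' : Type v) (_ : Field K') (_ : Algebra R' K') (_ : IsFractionRing R' K')
      (_ : Algebra R R') (_ : Algebra K K') (_ : Algebra R K')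
      (_ : IsScalarTower R R' K') (_ : IsScalarTower R K K')
      (_ : Module.Finite K K') (_ : IsLocalHom (algebraMap R R')) (τ : R'),
      τ ∈ maximalIdeal R' ∧ τ ≠ 0 ∧ τ ^ N = algebraMap R R' π := by
  classical
  let g : R[X] := X ^ N - C π
  have hmon : g.Monic := monic_X_pow_sub_C π (by omega)
  have hdeg : g.natDegree = N := natDegree_X_pow_sub_C
  have hπm : maximalIdeal R = Ideal.span {π} := (IsDiscreteValuationRing.irreducible_iff_uniformizer π).mp hπ
  have he : g.IsEisensteinAt (maximalIdeal R) := by
    refine hmon.isEisensteinAt_of_mem_of_notMem (Ideal.IsMaximal.ne_top inferInstance) (fun {i} hi => ?_) ?_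
    · rw [hdeg] at hi
      rcases Nat.eq_zero_or_pos i with rfl | hi0
      · simp [g, hπm, Ideal.mem_span_singleton_self, show N ≠ 0 by omega, show (0 : ℕ) ≠ N by omega]
      · simp [g, coeff_X_pow, show i ≠ N by omega, coeff_C, show i ≠ 0 by omega]
    · simp only [g, coeff_sub, coeff_X_pow, coeff_C_zero, if_neg (show (0 : ℕ) ≠ N by omega), zero_sub, neg_mem_iff]
      rw [hπm, Ideal.span_singleton_pow, Ideal.mem_span_singleton]
      rintro ⟨c, hc⟩
      refine hπ.not_isUnit (IsUnit.of_mul_eq_one c (mul_left_cancel₀ hπ.ne_zero ?_))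
      rw [← mul_assoc, ← pow_two, ← hc, mul_one]
  have hirr : Irreducible g := he.irreducible inferInstance hmon.isPrimitive (by omega)
  have hprime : Prime g := UniqueFactorizationMonoid.irreducible_iff_prime.1 hirr
  haveI hI : (Ideal.span {g}).IsPrime := (Ideal.span_singleton_prime hmon.ne_zero).2 hprime
  let R' : Type v := AdjoinRoot g
  haveI : IsDomain R' := AdjoinRoot.isDomain_of_prime hprime
  haveI : Module.Finite R R' := hmon.finite_adjoinRoot
  haveI : Algebra.IsIntegral R R' := inferInstance
  haveI : IsNoetherianRing R' := inferInstanceAs (IsNoetherianRing (R[X] ⧸ Ideal.span {g}))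
  let τ : R' := AdjoinRoot.root g
  have hτN : τ ^ N = algebraMap R R' π := by
    have := AdjoinRoot.eval₂_root g
    simp only [g, eval₂_sub, eval₂_X_pow, eval₂_C, sub_eq_zero] at this
    exact this
  have hinj : Function.Injective (algebraMap R R') := AdjoinRoot.of.injective_of_degree_ne_zero (by
    rw [degree_eq_natDegree hmon.ne_zero, hdeg]; exact_mod_cast (show N ≠ 0 by omega))
  have hτ0 : τ ≠ 0 := fun h => hπ.ne_zero (hinj (by rw [← hτN, h, zero_pow (by omega), map_zero]))
  have hmax : ∀ m : Ideal R', m.IsMaximal → m = Ideal.span {τ} := by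
    intro m hm
    have h1 : (m.comap (algebraMap R R')).IsMaximal := Ideal.isMaximal_comap_of_isIntegral_of_isMaximal m
    have h2 : π ∈ m.comap (algebraMap R R') := by
      rw [IsLocalRing.eq_maximalIdeal h1, hπm]; exact Ideal.mem_span_singleton_self π
    have h3 : τ ∈ m := hm.isPrime.mem_of_pow_mem N (by rw [hτN]; exact h2)
    refine le_antisymm (fun z hz => ?_) ((Ideal.span_singleton_le_iff_mem _).2 h3)
    obtain ⟨p, rfl⟩ := AdjoinRoot.mk_surjective z
    obtain ⟨q, hq⟩ := Polynomial.X_dvd_iff.2 (show (p - C (p.coeff 0)).coeff 0 = 0 by simp)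
    have hp : p = C (p.coeff 0) + X * q := by rw [← hq]; ring
    have hmk : AdjoinRoot.mk g p = algebraMap R R' (p.coeff 0) + τ * AdjoinRoot.mk g q := by
      conv_lhs => rw [hp]
      simp [τ, AdjoinRoot.algebraMap_eq, R']
    rw [hmk] at hz ⊢
    have h4 : p.coeff 0 ∈ m.comap (algebraMap R R') := (Submodule.add_mem_iff_left _ (m.mul_mem_right _ h3)).1 hz
    rw [IsLocalRing.eq_maximalIdeal h1, hπm, Ideal.mem_span_singleton] at h4
    obtain ⟨c, hc⟩ := h4
    rw [Ideal.mem_span_singleton, hc, map_mul, ← hτN]
    exact dvd_add ((dvd_pow_self τ (by omega)).mul_right _) (dvd_mul_right _ _)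
  haveI : IsLocalRing R' := by
    obtain ⟨m, hm⟩ := Ideal.exists_maximal R'
    exact IsLocalRing.of_unique_max_ideal ⟨m, hm, fun n hn => (hmax n hn).trans (hmax m hm).symm⟩
  have hM : maximalIdeal R' = Ideal.span {τ} := hmax _ inferInstance
  have hnf : ¬ IsField R' := fun h => hτ0 (by
    have := (IsLocalRing.isField_iff_maximalIdeal_eq).1 h
    rw [hM, Ideal.span_singleton_eq_bot] at this
    exact this)
  have hprin : (maximalIdeal R').IsPrincipal := hM ▸ inferInstance
  haveI : IsDiscreteValuationRing R' := ((IsDiscreteValuationRing.TFAE R' hnf).out 0 4 rfl rfl).2 hprin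
  let K' := FractionRing R'
  haveI : FaithfulSMul R K' := (faithfulSMul_iff_algebraMap_injective R K').2 (by
    rw [IsScalarTower.algebraMap_eq R R' K']; exact (IsFractionRing.injective R' K').comp hinj)
  letI : Algebra K K' := (IsFractionRing.lift (g := algebraMap R K') (FaithfulSMul.algebraMap_injective R K')).toAlgebra
  haveI : IsScalarTower R K K' := IsScalarTower.of_algebraMap_eq fun r => (IsFractionRing.lift_algebraMap _ r).symm
  have hint : IsIntegral K (algebraMap R' K' τ) := ⟨g.map (algebraMap R K), hmon.map _, by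
    rw [eval₂_map, ← IsScalarTower.algebraMap_eq]
    simp [g, ← map_pow, hτN, ← IsScalarTower.algebraMap_apply]⟩
  haveI hfd : FiniteDimensional K (IntermediateField.adjoin K {algebraMap R' K' τ}) :=
    IntermediateField.adjoin.finiteDimensional hint
  have hmemR : ∀ z : R', algebraMap R' K' z ∈ IntermediateField.adjoin K {algebraMap R' K' τ} := by
    intro z
    obtain ⟨p, rfl⟩ := AdjoinRoot.mk_surjective z
    induction p using Polynomial.induction_on' with
    | add a b ha hb => rw [map_add, map_add]; exact add_mem ha hb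
    | monomial i a =>
      have : AdjoinRoot.mk g (monomial i a) = algebraMap R R' a * τ ^ i := by
        rw [← C_mul_X_pow_eq_monomial]; simp [τ, AdjoinRoot.algebraMap_eq, R']
      rw [this, map_mul, map_pow, ← IsScalarTower.algebraMap_apply R R' K', IsScalarTower.algebraMap_apply R K K']
      exact mul_mem (IntermediateField.algebraMap_mem _ _) (pow_mem (IntermediateField.mem_adjoin_simple_self K _) i)
  haveI : Module.Finite K K' := by
    have htop : IntermediateField.adjoin K {algebraMap R' K' τ} = ⊤ := eq_top_iff.2 fun z _ => by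
      obtain ⟨a, b, -, rfl⟩ := IsFractionRing.div_surjective (A := R') z
      exact div_mem (hmemR a) (hmemR b)
    rw [htop] at hfd
    exact Module.Finite.equiv (IntermediateField.topEquiv (F := K) (E := K')).toLinearEquiv
  haveI : IsLocalHom (algebraMap R R') := ⟨fun r hr => by
    by_contra hn
    have : r ∈ maximalIdeal R := hn
    rw [hπm, Ideal.mem_span_singleton] at this
    obtain ⟨c, rfl⟩ := this
    rw [map_mul, ← hτN] at hr
    have hτu : IsUnit τ := (isUnit_pow_iff (by omega : N ≠ 0)).1 (isUnit_of_mul_isUnit_left hr)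
    have hτm : τ ∈ maximalIdeal R' := hM ▸ Ideal.mem_span_singleton_self τ
    exact hτm hτu⟩
  exact ⟨R', inferInstance, inferInstance, inferInstance, K', inferInstance, inferInstance, inferInstance,
    inferInstance, inferInstance, inferInstance, inferInstance, inferInstance, inferInstance, inferInstance,
    τ, hM ▸ Ideal.mem_span_singleton_self τ, hτ0, hτN⟩

end Groth.Agent.GmRescale
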